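import Mathlib
import Groth.Agent.FpqcDescent.Affine
import Groth.Agent.FibBound.Basic
import Groth.Prelude.Def_W4stkschemesremainderFib

/-!
# Degrees of fibres
-/

universe u

open CategoryTheory CategoryTheory.Limits AlgebraicGeometry

namespace Groth.Agent.BddFibLib

variable {k : Type u} [Field k] {T : Scheme.{u}}

/-- Finite of degree at most `n`. -/
def DL {S : Scheme.{u}} (p : T ⟶ S) (n : ℕ) : Prop := IsFinite p ∧ ∀ s, p.finrank s ≤ n

theorem flat_to_field (p : T ⟶ Spec (CommRingCat.of k)) : Flat p := by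
  refine (IsZariskiLocalAtSource.iff_of_openCover (P := @Flat) T.affineCover).mpr fun i => ?_
  obtain ⟨φ, hφ⟩ := Spec.map_surjective (T.affineCover.f i ≫ p)
  refine (congrArg (fun q => Flat q) hφ).mp ?_
  rw [Flat.SpecMap_iff]
  algebraize [φ.hom]
  show Module.Flat k _
  infer_instance

theorem toSpec_eq [IsAffine T] {K : CommRingCat.{u}} (p : T ⟶ Spec K) :
    T.isoSpec.hom ≫ Spec.map ((Scheme.ΓSpecIso K).inv ≫ p.appTop) = p := by
  rw [Spec.map_comp, Scheme.isoSpec_hom, ← Category.assoc, ← Scheme.toSpecΓ_naturality, Category.assoc,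
    toSpecΓ_SpecMap_ΓSpecIso_inv]
  exact Category.comp_id p

theorem finrank_SpecMap {A : Type u} [CommRing A] [Algebra k A] [Module.Finite k A] (s) :
    (Spec.map (CommRingCat.ofHom (algebraMap k A))).finrank s = Module.finrank k A := by
  rw [Scheme.Hom.finrank_SpecMap_algebraMap, Module.rankAtStalk_eq_finrank_of_free]
  rfl

theorem finiteOfDegLE_iff (p : T ⟶ Spec (CommRingCat.of k)) (n : ℕ) :
    BddFib.FiniteOfDegLE (CommRingCat.of k) p n ↔ DL p n := by
  letI : Algebra k Γ(T, ⊤) := BddFib.secAlgebra (CommRingCat.of k) p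
  have key : ∀ [IsAffine T], (IsFinite p ↔ Module.Finite k Γ(T, ⊤)) ∧
      (Module.Finite k Γ(T, ⊤) → ∀ s, p.finrank s = Module.finrank k Γ(T, ⊤)) := by
    intro hT
    have e : p = T.isoSpec.hom ≫ Spec.map (CommRingCat.ofHom (algebraMap k Γ(T, ⊤))) := (toSpec_eq p).symm
    refine ⟨?_, fun hf s => ?_⟩
    · conv_lhs => rw [e]
      rw [MorphismProperty.cancel_left_of_respectsIso @IsFinite, IsFinite.SpecMap_iff]
      exact RingHom.finite_algebraMap
    · have : IsFinite (Spec.map (CommRingCat.ofHom (algebraMap k Γ(T, ⊤)))) := by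
        rw [IsFinite.SpecMap_iff]
        exact RingHom.finite_algebraMap.mpr hf
      have := flat_to_field (Spec.map (CommRingCat.ofHom (algebraMap k Γ(T, ⊤))))
      conv_lhs => rw [e]
      rw [Scheme.Hom.finrank_comp_left_of_isIso]
      exact finrank_SpecMap s
  constructor
  · rintro ⟨hT, hf, hr⟩
    exact ⟨key.1.mpr hf, fun s => ((key.2 hf s).trans_le hr)⟩
  · rintro ⟨hf, hr⟩
    haveI : IsAffine T := isAffine_of_isAffineHom p
    refine ⟨inferInstance, key.1.mp hf, ?_⟩
    rw [← key.2 (key.1.mp hf) default]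
    exact hr _

theorem dl_of_isPullback {K : Type u} [Field K] {T' : Scheme.{u}} {p : T ⟶ Spec (CommRingCat.of k)}
    {p' : T' ⟶ Spec (CommRingCat.of K)} {e : T' ⟶ T} {h : Spec (CommRingCat.of K) ⟶ Spec (CommRingCat.of k)}
    (sq : IsPullback e p' p h) {n : ℕ} (hp : DL p n) : DL p' n := by
  have := hp.1
  have := flat_to_field p
  refine ⟨MorphismProperty.of_isPullback sq hp.1, fun s => ?_⟩
  rw [Scheme.Hom.finrank_of_isPullback _ _ _ _ sq s]
  exact hp.2 _

theorem dl_descend {K : Type u} [Field K] {T' : Scheme.{u}} {p : T ⟶ Spec (CommRingCat.of k)}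
    {p' : T' ⟶ Spec (CommRingCat.of K)} {e : T' ⟶ T} {h : Spec (CommRingCat.of K) ⟶ Spec (CommRingCat.of k)}
    (sq : IsPullback e p' p h) {n : ℕ} (hp : DL p' n) : DL p n := by
  have := flat_to_field p
  have := flat_to_field h
  have : Surjective h := ⟨fun x => ⟨default, Subsingleton.elim _ _⟩⟩
  have : IsFinite p := by
    haveI := FpqcDescent.isFinite_descendsAlong.{u}
    exact MorphismProperty.of_isPullback_of_descendsAlong (P := @IsFinite) (Q := @Surjective ⊓ @Flat ⊓ @QuasiCompact)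
      sq.flip ⟨⟨inferInstance, inferInstance⟩, inferInstance⟩ hp.1
  refine ⟨inferInstance, fun s => ?_⟩
  rw [Subsingleton.elim s (h default), ← Scheme.Hom.finrank_of_isPullback _ _ _ _ sq default]
  exact hp.2 _

variable {X Y : Scheme.{u}}

theorem fibreDegLE_iff (f : X ⟶ Y) (n : ℕ) : BddFib.FibreDegLE f n ↔
    ∀ (k : Type u) [Field k] (g : Spec (CommRingCat.of k) ⟶ Y), DL (pullback.snd f g) n := by
  constructor
  · intro hf k _ g
    obtain ⟨⟨y, φ⟩, rfl⟩ := (Scheme.SpecToEquivOfField k Y).symm.surjective g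
    have h0 := (finiteOfDegLE_iff (k := Y.residueField y) (f.fiberToSpecResidueField y) n).mp (hf y)
    have big : IsPullback (pullback.fst f (Spec.map φ ≫ Y.fromSpecResidueField y))
        (pullback.snd f (Spec.map φ ≫ Y.fromSpecResidueField y)) f (Spec.map φ ≫ Y.fromSpecResidueField y) :=
      .of_hasPullback _ _
    let l : pullback f (Spec.map φ ≫ Y.fromSpecResidueField y) ⟶ f.fiber y :=
      pullback.lift (pullback.fst _ _) (pullback.snd _ _ ≫ Spec.map φ) (by rw [Category.assoc]; exact pullback.condition)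
    have h1 : l ≫ pullback.fst f (Y.fromSpecResidueField y) = pullback.fst _ _ := pullback.lift_fst _ _ _
    have h2 : l ≫ pullback.snd f (Y.fromSpecResidueField y) = pullback.snd _ _ ≫ Spec.map φ :=
      pullback.lift_snd _ _ _
    have sq := IsPullback.of_right (h₁₂ := pullback.fst f (Y.fromSpecResidueField y)) (h₂₂ := Y.fromSpecResidueField y)
      (h₁₁ := l) (by rw [h1]; exact big) h2 (.of_hasPullback _ _)
    exact dl_of_isPullback sq h0
  · intro hf y
    exact (finiteOfDegLE_iff (k := Y.residueField y) (f.fiberToSpecResidueField y) n).mpr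
      (hf (Y.residueField y) (Y.fromSpecResidueField y))

theorem fibreDegLE_of_isPullback {X' Y' : Scheme.{u}} {f : X ⟶ Y} {g : Y' ⟶ Y} {f' : X' ⟶ Y'} {g' : X' ⟶ X}
    (h : IsPullback g' f' f g) {n : ℕ} (hf : BddFib.FibreDegLE f n) : BddFib.FibreDegLE f' n := by
  rw [fibreDegLE_iff] at hf ⊢
  intro k _ a
  have sq := (IsPullback.of_hasPullback f' a).paste_horiz h
  obtain ⟨h1, h2⟩ := hf k (a ≫ g)
  have he : pullback.snd f' a = sq.isoPullback.hom ≫ pullback.snd f (a ≫ g) := sq.isoPullback_hom_snd.symm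
  have := flat_to_field (pullback.snd f (a ≫ g))
  refine ⟨he ▸ inferInstance, fun s => ?_⟩
  rw [he, Scheme.Hom.finrank_comp_left_of_isIso]
  exact h2 s

theorem fibreDegLE_of_isPullback_of_surjective {X' Y' : Scheme.{u}} {f : X ⟶ Y} {g : Y' ⟶ Y} [Surjective g]
    {f' : X' ⟶ Y'} {g' : X' ⟶ X}
    (h : IsPullback g' f' f g) {n : ℕ} (hf : BddFib.FibreDegLE f' n) : BddFib.FibreDegLE f n := by
  intro y
  obtain ⟨y', rfl⟩ := g.surjective y
  refine (finiteOfDegLE_iff (k := Y.residueField (g y')) (f.fiberToSpecResidueField (g y')) n).mpr ?_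
  have h0 := (fibreDegLE_iff f' n).mp hf (Y'.residueField y') (Y'.fromSpecResidueField y')
  have big := (IsPullback.of_hasPullback f' (Y'.fromSpecResidueField y')).paste_horiz h
  have e : Y'.fromSpecResidueField y' ≫ g = Spec.map (g.residueFieldMap y') ≫ Y.fromSpecResidueField (g y') :=
    (g.SpecMap_residueFieldMap_fromSpecResidueField y').symm
  rw [e] at big
  let l : pullback f' (Y'.fromSpecResidueField y') ⟶ f.fiber (g y') :=
    pullback.lift (pullback.fst _ _ ≫ g') (pullback.snd _ _ ≫ Spec.map (g.residueFieldMap y'))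
      (by rw [Category.assoc, Category.assoc]; exact big.w.trans (Category.assoc _ _ _).symm |>.trans (Category.assoc _ _ _))
  have h1 : l ≫ pullback.fst f (Y.fromSpecResidueField (g y')) = pullback.fst _ _ ≫ g' := pullback.lift_fst _ _ _
  have h2 : l ≫ pullback.snd f (Y.fromSpecResidueField (g y')) = pullback.snd _ _ ≫ Spec.map (g.residueFieldMap y') :=
    pullback.lift_snd _ _ _
  have sq := IsPullback.of_right (h₁₁ := l) (h₁₂ := pullback.fst f (Y.fromSpecResidueField (g y')))
    (by rw [h1]; exact big) h2 (.of_hasPullback _ _)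
  exact dl_descend sq h0

theorem card_le (p : T ⟶ Spec (CommRingCat.of k)) {n : ℕ} (h : DL p n) : Finite T ∧ Nat.card T ≤ n := by
  obtain ⟨hT, hf, hr⟩ := (finiteOfDegLE_iff p n).mpr h
  letI : Algebra k Γ(T, ⊤) := BddFib.secAlgebra (CommRingCat.of k) p
  haveI : Module.Finite k Γ(T, ⊤) := hf
  haveI : IsArtinianRing Γ(T, ⊤) := IsArtinianRing.of_finite k _
  let e := (Scheme.homeoOfIso T.isoSpec).toEquiv
  have hc := FibBound.isArtinian_card_le k Γ(T, ⊤)
  have hfin : Finite (PrimeSpectrum Γ(T, ⊤)) := inferInstance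
  have : Finite T := @Finite.of_equiv _ _ hfin e.symm
  refine ⟨this, ?_⟩
  rw [Nat.card_congr e]
  have h2 : (Nat.card (PrimeSpectrum Γ(T, ⊤)) : ℕ∞) ≤ (n : ℕ∞) := by
    rw [← ENat.card_eq_coe_natCard]
    exact hc.trans (Nat.cast_le.mpr hr)
  exact_mod_cast h2

end Groth.Agent.BddFibLib
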