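import Mathlib
import Groth.Agent.BddFibLib.Basic

/-!
# Fibre degrees: composition, étale morphisms, descent, residue degrees
-/

universe u

open CategoryTheory CategoryTheory.Limits AlgebraicGeometry TensorProduct

namespace Groth.Agent.BddFibLib

variable {k : Type u} [Field k] {T : Scheme.{u}} {X Y Z : Scheme.{u}}

theorem discrete_of_finite (p : T ⟶ Spec (CommRingCat.of k)) [IsFinite p] : Finite T ∧ DiscreteTopology T := by
  have : IsLocallyArtinian T := IsLocallyArtinian.of_locallyQuasiFinite p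
  have : IsAffine T := isAffine_of_isAffineHom p
  exact ⟨finite_of_compact_of_discrete, inferInstance⟩

theorem dl_of_fibreDegLE (p : T ⟶ Spec (CommRingCat.of k)) {n : ℕ} (h : BddFib.FibreDegLE p n) : DL p n := by
  obtain ⟨h1, h2⟩ := (fibreDegLE_iff p n).mp h k (𝟙 _)
  have sq : IsPullback (pullback.fst p (𝟙 _)) (pullback.snd p (𝟙 _)) p (𝟙 _) := .of_hasPullback _ _
  have he : p = inv (pullback.fst p (𝟙 _)) ≫ pullback.snd p (𝟙 _) := by
    rw [eq_comm, IsIso.inv_comp_eq, pullback.condition, Category.comp_id]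
  have := flat_to_field (pullback.snd p (𝟙 (Spec (CommRingCat.of k))))
  refine ⟨he ▸ inferInstance, fun s => ?_⟩
  rw [he, Scheme.Hom.finrank_comp_left_of_isIso]
  exact h2 s

theorem exists_spanning {A B : Type u} [CommRing A] [CommRing B] [Algebra A B] [IsArtinianRing A] {n : ℕ}
    (h : ∀ P : MaximalSpectrum A, ∃ b : Fin n → B, Submodule.span A (Set.range b) ⊔ P.asIdeal • ⊤ = ⊤) :
    ∃ b : Fin n → B, Submodule.span A (Set.range b) = ⊤ := by
  classical
  choose b hb using h
  have hcop : Pairwise (Function.onFun IsCoprime fun P : MaximalSpectrum A => P.asIdeal) := fun P Q hPQ =>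
    Ideal.isCoprime_iff_sup_eq.mpr (P.isMaximal.coprime_of_ne Q.isMaximal fun e => hPQ (MaximalSpectrum.ext e))
  choose c hc using fun P : MaximalSpectrum A =>
    Ideal.exists_forall_sub_mem_ideal hcop (fun Q => if Q = P then (1 : A) else 0)
  letI := Fintype.ofFinite (MaximalSpectrum A)
  let b₀ : Fin n → B := fun i => ∑ P, c P • b P i
  let N := Submodule.span A (Set.range b₀)
  have hP : ∀ P : MaximalSpectrum A, N ⊔ P.asIdeal • ⊤ = ⊤ := by
    intro P
    refine eq_top_iff.mpr ((hb P).ge.trans (sup_le (Submodule.span_le.mpr ?_) le_sup_right))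
    rintro _ ⟨i, rfl⟩
    have hdiff : b₀ i - b P i ∈ P.asIdeal • (⊤ : Submodule A B) := by
      have e : b₀ i - b P i = ∑ Q, (c Q - if P = Q then 1 else 0) • b Q i := by
        simp [b₀, sub_smul, Finset.sum_sub_distrib, ite_smul, Finset.sum_ite_eq]
      rw [e]
      exact sum_mem fun Q _ => Submodule.smul_mem_smul (hc Q P) Submodule.mem_top
    have : b P i = b₀ i - (b₀ i - b P i) := (sub_sub_cancel _ _).symm
    rw [this]
    exact sub_mem (Submodule.mem_sup_left (Submodule.subset_span ⟨i, rfl⟩)) (Submodule.mem_sup_right hdiff)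
  have hmul : ∀ I J : Ideal A, N ⊔ I • ⊤ = ⊤ → N ⊔ J • ⊤ = ⊤ → N ⊔ (I * J) • ⊤ = ⊤ := by
    intro I J hI hJ
    refine eq_top_iff.mpr (hI.ge.trans (sup_le le_sup_left ?_))
    calc I • (⊤ : Submodule A B) = I • N ⊔ I • J • (⊤ : Submodule A B) := by rw [← Submodule.smul_sup, hJ]
      _ ≤ N ⊔ (I * J) • ⊤ := sup_le (Submodule.smul_le_right.trans le_sup_left)
          (le_sup_of_le_right (Submodule.mul_smul I J _).ge)
  let I : Ideal A := ∏ P : MaximalSpectrum A, P.asIdeal
  have hI : N ⊔ I • ⊤ = ⊤ := Finset.prod_induction _ (fun J => N ⊔ J • ⊤ = ⊤) hmul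
    (show N ⊔ (1 : Ideal A) • ⊤ = ⊤ by rw [Ideal.one_eq_top, Submodule.top_smul, sup_top_eq]) fun P _ => hP P
  have hnil : I ≤ nilradical A := by
    rw [nilradical_eq_sInf]
    refine le_sInf fun Q hQ => ?_
    haveI : Q.IsPrime := hQ
    have hQm : Q.IsMaximal := IsArtinianRing.isMaximal_of_isPrime Q
    exact Ideal.prod_le_inf.trans (Finset.inf_le (f := fun P : MaximalSpectrum A => P.asIdeal) (Finset.mem_univ (⟨Q, hQm⟩ : MaximalSpectrum A)))
  obtain ⟨e, he⟩ := IsArtinianRing.isNilpotent_nilradical (R := A)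
  have hpow : ∀ m, N ⊔ I ^ m • ⊤ = ⊤ := by
    intro m
    induction m with
    | zero => rw [pow_zero, Ideal.one_eq_top, Submodule.top_smul, sup_top_eq]
    | succ m ih => rw [pow_succ]; exact hmul _ _ ih hI
  refine ⟨b₀, eq_top_iff.mpr ((hpow e).ge.trans (sup_le le_rfl ?_))⟩
  have h0 : I ^ e = ⊥ := le_bot_iff.mp ((Ideal.pow_right_mono hnil e).trans he.le)
  rw [h0, Submodule.bot_smul]
  exact bot_le

theorem finrank_le_mul (k : Type u) [Field k] {A B : Type u} [CommRing A] [CommRing B] [Algebra k A] [Algebra A B]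
    [Algebra k B] [IsScalarTower k A B] [Module.Finite k A] {n m : ℕ} (hA : Module.finrank k A ≤ m)
    (h : ∀ P : MaximalSpectrum A, Module.Finite (A ⧸ P.asIdeal) ((A ⧸ P.asIdeal) ⊗[A] B) ∧
      Module.finrank (A ⧸ P.asIdeal) ((A ⧸ P.asIdeal) ⊗[A] B) ≤ n) :
    Module.Finite k B ∧ Module.finrank k B ≤ n * m := by
  haveI : IsArtinianRing A := IsArtinianRing.of_finite k A
  obtain ⟨b, hb⟩ := exists_spanning (A := A) (B := B) (n := n) fun P => by
    letI := Ideal.Quotient.field P.asIdeal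
    obtain ⟨hfin, hr⟩ := h P
    let v := Module.finBasis (A ⧸ P.asIdeal) ((A ⧸ P.asIdeal) ⊗[A] B)
    let e := quotTensorEquivQuotSMul B P.asIdeal
    choose w hw using fun i => Submodule.Quotient.mk_surjective _ (e (v i))
    let b : Fin n → B := fun i => if hi : i.1 < Module.finrank (A ⧸ P.asIdeal) ((A ⧸ P.asIdeal) ⊗[A] B) then w ⟨i, hi⟩ else 0
    refine ⟨b, ?_⟩
    have hv : Submodule.span A (Set.range v) = ⊤ := by
      rw [← Submodule.restrictScalars_span A (A ⧸ P.asIdeal) Ideal.Quotient.mk_surjective, v.span_eq]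
      rfl
    refine eq_top_iff.mpr fun x _ => ?_
    have hx : (Submodule.Quotient.mk x : B ⧸ P.asIdeal • (⊤ : Submodule A B)) ∈
        (Submodule.span A (Set.range b)).map (P.asIdeal • (⊤ : Submodule A B)).mkQ := by
      have : e.symm (Submodule.Quotient.mk x) ∈ Submodule.span A (Set.range v) := hv ▸ Submodule.mem_top
      have h2 := Submodule.mem_map_of_mem (f := e.toLinearMap) this
      rw [LinearEquiv.coe_coe, e.apply_symm_apply, Submodule.map_span] at h2
      refine (Submodule.span_le.mpr ?_) h2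
      rintro _ ⟨_, ⟨i, rfl⟩, rfl⟩
      refine ⟨b ⟨i, lt_of_lt_of_le i.2 hr⟩, Submodule.subset_span ⟨_, rfl⟩, ?_⟩
      simp only [b, Fin.is_lt, dif_pos]
      exact hw i
    obtain ⟨y, hy, hyx⟩ := hx
    rw [show x = y + (x - y) by abel]
    exact add_mem (Submodule.mem_sup_left hy)
      (Submodule.mem_sup_right ((Submodule.Quotient.eq _).mp hyx.symm))
  let φ : (Fin n → A) →ₗ[k] B := (Fintype.linearCombination A b).restrictScalars k
  have hφ : Function.Surjective φ := fun x => by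
    have : x ∈ Submodule.span A (Set.range b) := hb ▸ Submodule.mem_top
    rw [← Fintype.range_linearCombination] at this
    exact this
  refine ⟨Module.Finite.of_surjective φ hφ, ?_⟩
  refine (φ.finrank_le_finrank_of_surjective hφ).trans ?_
  rw [Module.finrank_pi_fintype]
  simp only [Finset.sum_const, Finset.card_univ, Fintype.card_fin, smul_eq_mul]
  exact Nat.mul_le_mul_left n hA

theorem fibreDegLE_comp (f : X ⟶ Y) (g : Y ⟶ Z) {n m : ℕ} (hf : BddFib.FibreDegLE f n)
    (hg : BddFib.FibreDegLE g m) : BddFib.FibreDegLE (f ≫ g) (n * m) := by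
  rw [fibreDegLE_iff]
  intro k _ a
  let U := pullback g a
  have hU := (fibreDegLE_iff g m).mp hg k a
  let pT := pullback.snd (f ≫ g) a
  let q : pullback (f ≫ g) a ⟶ U := pullback.lift (pullback.fst _ _ ≫ f) (pullback.snd _ _)
    (by rw [Category.assoc]; exact pullback.condition)
  have hq1 : q ≫ pullback.fst g a = pullback.fst _ _ ≫ f := pullback.lift_fst _ _ _
  have hq2 : q ≫ pullback.snd g a = pT := pullback.lift_snd _ _ _
  have sqq : IsPullback (pullback.fst (f ≫ g) a) q f (pullback.fst g a) :=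
    IsPullback.of_bot (h₁₁ := pullback.fst (f ≫ g) a) (v₁₁ := q) (v₂₁ := pullback.snd g a) (h₃₁ := a)
      (by rw [hq2]; exact IsPullback.of_hasPullback _ _) hq1.symm (IsPullback.of_hasPullback g a)
  have hqn : BddFib.FibreDegLE q n := fibreDegLE_of_isPullback sqq hf
  haveI := hU.1
  obtain ⟨hUfin, hUd⟩ := discrete_of_finite (pullback.snd g a)
  haveI : IsAffine U := inferInstance
  have hfib : ∀ u : U, (q ⁻¹' {u}).Finite ∧ DiscreteTopology (q ⁻¹' {u} : Set _) := by
    intro u
    obtain ⟨h1, h2⟩ := (finiteOfDegLE_iff (k := U.residueField u) (q.fiberToSpecResidueField u) n).mp (hqn u)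
    haveI := h1
    obtain ⟨h3, h4⟩ := discrete_of_finite (k := U.residueField u) (q.fiberToSpecResidueField u)
    exact ⟨@Finite.of_equiv _ _ h3 (q.fiberHomeo u).toEquiv, (q.fiberHomeo u).discreteTopology⟩
  have hTfin : Finite ↥(pullback (f ≫ g) a) := by
    have h := Set.finite_iUnion fun u : U => (hfib u).1
    rw [Set.iUnion_eq_univ_iff.mpr fun x => ⟨q x, rfl⟩] at h
    exact Set.finite_univ_iff.mp h
  have hTd : DiscreteTopology ↥(pullback (f ≫ g) a) := discreteTopology_iff_isOpen_singleton.mpr fun x => by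
    haveI := (hfib (q x)).2
    have ho : IsOpen (q ⁻¹' {q x}) := (isOpen_discrete _).preimage q.continuous
    have := ho.isOpenMap_subtype_val _ (isOpen_discrete {(⟨x, rfl⟩ : q ⁻¹' {q x})})
    rwa [Set.image_singleton] at this
  haveI : IsAffine (pullback (f ≫ g) a) := inferInstance
  obtain ⟨-, hAf, hAr⟩ := (finiteOfDegLE_iff (pullback.snd g a) m).mpr hU
  letI aA : Algebra k Γ(U, ⊤) := BddFib.secAlgebra (CommRingCat.of k) (pullback.snd g a)
  letI aB : Algebra k Γ(pullback (f ≫ g) a, ⊤) := BddFib.secAlgebra (CommRingCat.of k) pT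
  letI aAB : Algebra Γ(U, ⊤) Γ(pullback (f ≫ g) a, ⊤) := q.appTop.hom.toAlgebra
  haveI : IsScalarTower k Γ(U, ⊤) Γ(pullback (f ≫ g) a, ⊤) := IsScalarTower.of_algebraMap_eq fun x => by
    show ((Scheme.ΓSpecIso (CommRingCat.of k)).inv ≫ pT.appTop).hom x =
      q.appTop.hom (((Scheme.ΓSpecIso (CommRingCat.of k)).inv ≫ (pullback.snd g a).appTop).hom x)
    rw [← hq2, Scheme.Hom.comp_appTop]
    rfl
  haveI : Module.Finite k Γ(U, ⊤) := hAf
  have key := finrank_le_mul k (A := Γ(U, ⊤)) (B := Γ(pullback (f ≫ g) a, ⊤)) (n := n) (m := m) hAr fun P => by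
    letI := Ideal.Quotient.field P.asIdeal
    have e : IsPullback (Scheme.isoSpec (pullback (f ≫ g) a)).inv (Spec.map q.appTop) q U.isoSpec.inv :=
      IsPullback.of_horiz_isIso ⟨(Scheme.isoSpec_inv_naturality q).symm⟩
    have h1 : BddFib.FibreDegLE (Spec.map q.appTop) n := fibreDegLE_of_isPullback e hqn
    have h2 : IsPullback (Spec.map (CommRingCat.ofHom (Algebra.TensorProduct.includeRight :
          Γ(pullback (f ≫ g) a, ⊤) →ₐ[Γ(U, ⊤)] (Γ(U, ⊤) ⧸ P.asIdeal) ⊗[Γ(U, ⊤)] Γ(pullback (f ≫ g) a, ⊤)).toRingHom))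
        (Spec.map (CommRingCat.ofHom (algebraMap (Γ(U, ⊤) ⧸ P.asIdeal)
          ((Γ(U, ⊤) ⧸ P.asIdeal) ⊗[Γ(U, ⊤)] Γ(pullback (f ≫ g) a, ⊤)))))
        (Spec.map q.appTop) (Spec.map (CommRingCat.ofHom (algebraMap Γ(U, ⊤) (Γ(U, ⊤) ⧸ P.asIdeal)))) :=
      isPullback_SpecMap_of_isPushout _ _ _ _ (CommRingCat.isPushout_tensorProduct Γ(U, ⊤) (Γ(U, ⊤) ⧸ P.asIdeal) Γ(pullback (f ≫ g) a, ⊤)).flip
    obtain ⟨h3, h4⟩ := dl_of_fibreDegLE _ (fibreDegLE_of_isPullback h2 h1)
    rw [IsFinite.SpecMap_iff, CommRingCat.hom_ofHom, RingHom.finite_algebraMap] at h3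
    refine ⟨h3, ?_⟩
    rw [← finrank_SpecMap (k := Γ(U, ⊤) ⧸ P.asIdeal) (A := (Γ(U, ⊤) ⧸ P.asIdeal) ⊗[Γ(U, ⊤)] Γ(pullback (f ≫ g) a, ⊤)) default]
    exact h4 default
  exact (finiteOfDegLE_iff pT (n * m)).mp ⟨inferInstance, key.1, key.2⟩

theorem dl_of_isImmersion (p : T ⟶ Spec (CommRingCat.of k)) [IsImmersion p] : DL p 1 := by
  have : IsClosedImmersion p := .of_isPreimmersion p (by
    rcases Set.eq_empty_or_nonempty (Set.range p) with h | ⟨x, hx⟩
    · rw [h]; exact isClosed_empty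
    · rw [show Set.range p = Set.univ from Set.eq_univ_of_forall fun y => Subsingleton.elim x y ▸ hx]
      exact isClosed_univ)
  haveI : IsAffine T := isAffine_of_isAffineHom p
  letI : Algebra k Γ(T, ⊤) := BddFib.secAlgebra (CommRingCat.of k) p
  have hs : Function.Surjective (Algebra.linearMap k Γ(T, ⊤)) := by
    show Function.Surjective ((Scheme.ΓSpecIso (CommRingCat.of k)).inv ≫ p.appTop).hom
    exact (p.app_surjective ⊤ (isAffineOpen_top _)).comp
      (ConcreteCategory.bijective_of_isIso (Scheme.ΓSpecIso (CommRingCat.of k)).inv).2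
  refine (finiteOfDegLE_iff p 1).mp ⟨inferInstance, Module.Finite.of_surjective _ hs, ?_⟩
  exact ((Algebra.linearMap k Γ(T, ⊤)).finrank_le_finrank_of_surjective hs).trans (Module.finrank_self k).le

theorem fibreDegLE_of_isImmersion (f : X ⟶ Y) [IsImmersion f] : BddFib.FibreDegLE f 1 :=
  (fibreDegLE_iff f 1).mpr fun _ _ a =>
    haveI : IsImmersion (pullback.snd f a) := MorphismProperty.pullback_snd _ _ inferInstance
    dl_of_isImmersion _

theorem dl_etale_isAlgClosed [IsAlgClosed k] (p : T ⟶ Spec (CommRingCat.of k)) [Etale p] [Finite T] {n : ℕ}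
    (h : Nat.card T ≤ n) : DL p n := by
  haveI : QuasiCompact p :=
    (HasAffineProperty.iff_of_isAffine (P := @QuasiCompact)).mpr inferInstance
  haveI : LocallyQuasiFinite p := LocallyQuasiFinite.of_finite_preimage_singleton p fun _ => Set.toFinite _
  haveI : IsLocallyArtinian T := IsLocallyArtinian.of_locallyQuasiFinite p
  haveI : IsAffine T := inferInstance
  letI : Algebra k Γ(T, ⊤) := BddFib.secAlgebra (CommRingCat.of k) p
  haveI : Algebra.Etale k Γ(T, ⊤) := by
    rw [← RingHom.etale_algebraMap]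
    show RingHom.Etale ((Scheme.ΓSpecIso (CommRingCat.of k)).inv ≫ p.appTop).hom
    exact RingHom.Etale.respectsIso.2 p.appTop.hom (Scheme.ΓSpecIso (CommRingCat.of k)).symm.commRingCatIsoToRingEquiv
      ((HasRingHomProperty.iff_of_isAffine (P := @Etale)).mp inferInstance)
  haveI : Module.Finite k Γ(T, ⊤) := Algebra.FormallyUnramified.finite_of_free k _
  refine (finiteOfDegLE_iff p n).mp ⟨inferInstance, inferInstance, ?_⟩
  haveI : IsSepClosed k := inferInstance
  haveI : IsArtinianRing Γ(T, ⊤) := IsArtinianRing.of_finite k _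
  haveI : Finite (PrimeSpectrum Γ(T, ⊤)) := inferInstance
  letI := Fintype.ofFinite (PrimeSpectrum Γ(T, ⊤))
  rw [(Algebra.FormallyEtale.equivPiOfIsSepClosed k Γ(T, ⊤)).toLinearEquiv.finrank_eq, Module.finrank_pi,
    ← Nat.card_eq_fintype_card]
  exact (Nat.card_congr (Scheme.homeoOfIso T.isoSpec).toEquiv).symm.trans_le h

theorem fibreDegLE_of_etale (f : X ⟶ Y) [Etale f] {n : ℕ}
    (h : ∀ (k : Type u) [Field k] (g : Spec (CommRingCat.of k) ⟶ Y),
      Finite ↥(pullback f g) ∧ Nat.card ↥(pullback f g) ≤ n) : BddFib.FibreDegLE f n := by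
  rw [fibreDegLE_iff]
  intro k _ g
  let K := AlgebraicClosure k
  let j : Spec (CommRingCat.of K) ⟶ Spec (CommRingCat.of k) := Spec.map (CommRingCat.ofHom (algebraMap k K))
  let l : pullback f (j ≫ g) ⟶ pullback f g :=
    pullback.lift (pullback.fst _ _) (pullback.snd _ _ ≫ j) (by rw [Category.assoc]; exact pullback.condition)
  have h1 : l ≫ pullback.fst f g = pullback.fst _ _ := pullback.lift_fst _ _ _
  have h2 : l ≫ pullback.snd f g = pullback.snd _ _ ≫ j := pullback.lift_snd _ _ _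
  have sq := IsPullback.of_right (h₁₁ := l) (h₁₂ := pullback.fst f g)
    (by rw [h1]; exact IsPullback.of_hasPullback f (j ≫ g)) h2 (.of_hasPullback _ _)
  obtain ⟨hfin, hcard⟩ := h K (j ≫ g)
  exact dl_descend sq (dl_etale_isAlgClosed (pullback.snd f (j ≫ g)) hcard)

theorem fibreDegLE_of_flat_surjective (f : X ⟶ Y) (h : Y ⟶ Z) [Flat f] [Surjective f] {n : ℕ}
    (hg : BddFib.FibreDegLE (f ≫ h) n) : BddFib.FibreDegLE h n := by
  rw [fibreDegLE_iff] at hg ⊢
  intro k _ a
  let pT := pullback.snd (f ≫ h) a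
  obtain ⟨hT1, hT2⟩ := hg k a
  let q : pullback (f ≫ h) a ⟶ pullback h a := pullback.lift (pullback.fst _ _ ≫ f) (pullback.snd _ _)
    (by rw [Category.assoc]; exact pullback.condition)
  have hq1 : q ≫ pullback.fst h a = pullback.fst _ _ ≫ f := pullback.lift_fst _ _ _
  have hq2 : q ≫ pullback.snd h a = pT := pullback.lift_snd _ _ _
  have sqq : IsPullback (pullback.fst (f ≫ h) a) q f (pullback.fst h a) :=
    IsPullback.of_bot (h₁₁ := pullback.fst (f ≫ h) a) (v₁₁ := q) (v₂₁ := pullback.snd h a) (h₃₁ := a)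
      (by rw [hq2]; exact IsPullback.of_hasPullback _ _) hq1.symm (IsPullback.of_hasPullback h a)
  haveI : Flat q := MorphismProperty.of_isPullback sqq inferInstance
  haveI : Surjective q := MorphismProperty.of_isPullback sqq inferInstance
  haveI := hT1
  obtain ⟨hTfin, hTd⟩ := discrete_of_finite (pullback.snd (f ≫ h) a)
  haveI : Finite ↥(pullback h a) := Finite.of_surjective _ q.surjective
  haveI : T1Space ↥(pullback h a) := t1Space_iff_specializes_imp_eq.mpr fun u' u hs => by
    obtain ⟨t, rfl⟩ := q.surjective u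
    obtain ⟨t', ht', rfl⟩ := Flat.generalizingMap q hs
    rw [ht'.eq]
  haveI : IsAffine (pullback h a) := inferInstance
  haveI : IsAffine (pullback (f ≫ h) a) := inferInstance
  obtain ⟨-, hBf, hBr⟩ := (finiteOfDegLE_iff pT n).mpr (hg k a)
  letI aA : Algebra k Γ(pullback h a, ⊤) := BddFib.secAlgebra (CommRingCat.of k) (pullback.snd h a)
  letI aB : Algebra k Γ(pullback (f ≫ h) a, ⊤) := BddFib.secAlgebra (CommRingCat.of k) pT
  haveI : Module.Finite k Γ(pullback (f ≫ h) a, ⊤) := hBf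
  let ψ : Γ(pullback h a, ⊤) →ₐ[k] Γ(pullback (f ≫ h) a, ⊤) :=
    { q.appTop.hom with
      commutes' := fun x => by
        show q.appTop.hom (((Scheme.ΓSpecIso (CommRingCat.of k)).inv ≫ (pullback.snd h a).appTop).hom x) =
          ((Scheme.ΓSpecIso (CommRingCat.of k)).inv ≫ pT.appTop).hom x
        rw [← hq2, Scheme.Hom.comp_appTop]
        rfl }
  have hinj : Function.Injective ψ.toLinearMap :=
    ((Flat.flat_and_surjective_iff_faithfullyFlat_of_isAffine q).mp ⟨inferInstance, inferInstance⟩).injective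
  exact (finiteOfDegLE_iff (pullback.snd h a) n).mp ⟨inferInstance, Module.Finite.of_injective ψ.toLinearMap hinj,
    (LinearMap.finrank_le_finrank_of_injective hinj).trans hBr⟩

end Groth.Agent.BddFibLib
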